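import Groth.Agent.S0357
import Groth.Agent.CohQC.Bound
import Groth.Agent.CohQC.Restrict
import Groth.Agent.DCohShriek.CoherentMain

/-!
Complements of affine opens in proper irreducible schemes of dimension at least two are connected.
-/

set_option autoImplicit false
set_option backward.isDefEq.respectTransparency false
set_option linter.style.haveILetI false
set_option maxHeartbeats 1000000

universe u

open CategoryTheory CategoryTheory.Limits AlgebraicGeometry TopologicalSpace Opposite

noncomputable section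

namespace Groth.Agent.Lich

variable {k : Type u} [Field k] {X : Scheme.{u}} (f : X ⟶ Spec (CommRingCat.of k)) [IsProper f] [IrreducibleSpace X]

include f in
/-- The cohomology in degree `dim X` of coherent modules vanishes on the complement of a nonempty closed set. -/
theorem subsingleton_hh_restrict (d : ℕ) (hd : topologicalKrullDim X = d) (V : X.Opens) (hV : V ≠ ⊤)
    (hVne : (V : Set X).Nonempty) (M : X.Modules) (hM : Coh.IsCoh M) : Subsingleton (Coh.HH V (M.restrict V.ι) d) := by
  haveI : IsLocallyNoetherian X := LocallyOfFiniteType.isLocallyNoetherian f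
  haveI : CompactSpace X := QuasiCompact.compactSpace_of_compactSpace f
  haveI : IsNoetherian X := {}
  haveI : Nonempty V.toScheme := ⟨⟨hVne.choose, hVne.choose_spec⟩⟩
  have hVd : topologicalKrullDim V.toScheme = d := by
    haveI : IrreducibleSpace V.toScheme :=
      { toPreirreducibleSpace := Subtype.preirreducibleSpace (IsPreirreducible.open_subset
          (IrreducibleSpace.isIrreducible_univ X).2 V.isOpen (Set.subset_univ _)), toNonempty := inferInstance }
    rw [← topologicalKrullDim_eq_of_openImm (V.ι ≫ f) f V.ι rfl, hd]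
  haveI : QuasiCompact (V.ι ≫ f) := inferInstance
  refine (S0357.result k V.toScheme (V.ι ≫ f) d hVd).2 ?_ _ (DCohShriek.isCoh_restrictFunctor V.ι hM)
  intro Z i _ _ hZ hp
  haveI : IsProper (i ≫ V.ι) := by
    haveI : IsProper ((i ≫ V.ι) ≫ f) := by rw [Category.assoc]; exact hp
    exact IsProper.of_comp (i ≫ V.ι) f
  have hcl : IsClosed (Set.range (i ≫ V.ι)) := (i ≫ V.ι).isClosedMap.isClosed_range
  have hemb : Topology.IsEmbedding (i ≫ V.ι) := (i ≫ V.ι).isEmbedding
  have hdim : topologicalKrullDim (Set.range (i ≫ V.ι)) = (d : WithBot ℕ∞) :=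
    (IsHomeomorph.topologicalKrullDim_eq _ hemb.toHomeomorph.isHomeomorph).symm.trans hZ
  have huniv : Set.range (i ≫ V.ι) = Set.univ := by
    by_contra hne
    obtain ⟨e, rfl, he⟩ := exists_dim_le hd.le _ hcl hne (Set.range_nonempty _)
    rw [hdim] at he
    have : e + 1 ≤ e := by exact_mod_cast he
    omega
  refine hV (eq_top_iff.2 fun x _ => ?_)
  obtain ⟨z, rfl⟩ : x ∈ Set.range (i ≫ V.ι) := huniv ▸ Set.mem_univ x
  exact (i z).2

include f in
/-- The complement of a proper open with vanishing cohomology in degree `dim X - 1` is connected. -/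
theorem isConnected_compl_of_vanish (n : ℕ) (hd : topologicalKrullDim X = (n + 1 : ℕ)) (U : X.Opens)
    (hne : (U : Set X).Nonempty) (hUX : U ≠ ⊤)
    (hv : ∀ M : X.Modules, Coh.IsCoh M → Subsingleton (CohSite.HU (Coh.toAb M) n U)) :
    IsConnected ((U : Set X)ᶜ) := by
  haveI : IsLocallyNoetherian X := LocallyOfFiniteType.isLocallyNoetherian f
  haveI : CompactSpace X := QuasiCompact.compactSpace_of_compactSpace f
  haveI : IsNoetherian X := {}
  have hbad : ¬ ∀ M : X.Modules, Coh.IsCoh M → Subsingleton (CohSite.HU (Coh.toAb M) (n + 1) (⊤ : X.Opens)) := fun h =>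
    (S0357.result k X f (n + 1) hd).1 (fun M hM => (SiteCoh.huTerminalEquiv (Opens.grothendieckTopology X) isTerminalTop
      (Coh.toAb M) (n + 1)).toEquiv.subsingleton_congr.mpr (h M hM)) X (𝟙 X) hd (by rwa [Category.id_comp])
  refine ⟨?_, isPreconnected_closed_iff.2 fun A B hA hB hAB hA' hB' => ?_⟩
  · by_contra h
    rw [Set.not_nonempty_iff_eq_empty, Set.compl_empty_iff] at h
    exact hUX (Opens.ext (h.trans Opens.coe_top.symm))
  by_contra hdisj
  rw [Set.not_nonempty_iff_eq_empty] at hdisj
  let A' : Closeds X := ⟨(U : Set X)ᶜ ∩ A, U.isOpen.isClosed_compl.inter hA⟩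
  let B' : Closeds X := ⟨(U : Set X)ᶜ ∩ B, U.isOpen.isClosed_compl.inter hB⟩
  have hinf : A'.compl ⊓ B'.compl = U := by
    ext x
    show (x ∈ (A' : Set X)ᶜ ∧ x ∈ (B' : Set X)ᶜ) ↔ x ∈ (U : Set X)
    refine ⟨fun h => ?_, fun h => ⟨fun h' => h'.1 h, fun h' => h'.1 h⟩⟩
    by_contra hx
    rcases hAB hx with ha | hb
    · exact h.1 ⟨hx, ha⟩
    · exact h.2 ⟨hx, hb⟩
  have hsup : A'.compl ⊔ B'.compl = ⊤ := by
    ext x
    refine ⟨fun _ => trivial, fun _ => ?_⟩
    show x ∈ (A' : Set X)ᶜ ∪ (B' : Set X)ᶜ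
    by_contra h
    simp only [Set.mem_union, Set.mem_compl_iff, not_or, not_not] at h
    exact Set.eq_empty_iff_forall_notMem.1 hdisj x ⟨h.1.1, h.1.2, h.2.2⟩
  have hside : ∀ C : Closeds X, (C : Set X).Nonempty → U ≤ C.compl → ∀ M : X.Modules, Coh.IsCoh M →
      Subsingleton (CohSite.HU (Coh.toAb M) (n + 1) C.compl) := by
    intro C hC hle M hM
    obtain ⟨e⟩ := CohQC.hu_restrict M C.compl (n + 1)
    haveI := subsingleton_hh_restrict f (n + 1) hd C.compl (fun h => by
      obtain ⟨x, hx⟩ := hC
      exact (h.symm ▸ (trivial : x ∈ (⊤ : X.Opens)) : x ∈ C.compl) hx) (hne.mono hle) M hM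
    exact e.toEquiv.subsingleton
  refine hbad fun M hM => ?_
  haveI : M.IsQuasicoherent := hM.1
  rw [← hsup]
  refine CohQC.hu_sup (Coh.toAb M) A'.compl B'.compl n ?_ (hside A' hA' (hinf ▸ inf_le_left) M hM)
    (hside B' hB' (hinf ▸ inf_le_right) M hM)
  rw [hinf]
  exact hv M hM

include f in
/-- An affine open of a positive dimensional proper irreducible scheme is not everything. -/
theorem ne_top_of_isAffineOpen (d : ℕ) (hd : topologicalKrullDim X = d) (h1 : 1 ≤ d) (U : X.Opens)
    (hU : IsAffineOpen U) : U ≠ ⊤ := by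
  rintro rfl
  refine (S0357.result k X f d hd).1 (fun M hM => ?_) X (𝟙 X) hd (by rwa [Category.id_comp])
  haveI : M.IsQuasicoherent := hM.1
  exact (SiteCoh.huTerminalEquiv (Opens.grothendieckTopology X) isTerminalTop
    (Coh.toAb M) d).toEquiv.subsingleton_congr.mpr (CohQC.isAffineOpen_hu_vanish M hU h1)

include f in
/-- **Goodman**: the complement of a nonempty affine open is connected. -/
theorem isConnected_compl (d : ℕ) (hd : topologicalKrullDim X = d) (h2 : 2 ≤ d) (U : X.Opens) (hU : IsAffineOpen U)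
    (hne : (U : Set X).Nonempty) : IsConnected ((U : Set X)ᶜ) := by
  obtain ⟨n, rfl⟩ : ∃ n, d = n + 1 := ⟨d - 1, by omega⟩
  refine isConnected_compl_of_vanish f n hd U hne (ne_top_of_isAffineOpen f _ hd (by omega) U hU) fun M hM => ?_
  haveI : M.IsQuasicoherent := hM.1
  exact CohQC.isAffineOpen_hu_vanish M hU (by omega)

end Groth.Agent.Lich
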