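import Groth.Agent.CurveRR.Curve
import Groth.Agent.SymAlg.FTSub
import Groth.Agent.FreeJ.Grothendieck
import Groth.Agent.S0458
import Groth.Prelude.Def_Canon

/-!
Cohomology in top degree and subsheaves with small cokernel.
-/

set_option autoImplicit false
set_option backward.isDefEq.respectTransparency false
set_option linter.style.haveILetI false

universe u

open CategoryTheory CategoryTheory.Limits AlgebraicGeometry TopologicalSpace Opposite

noncomputable section

namespace Groth.Agent.Lich

open Groth.Agent.QC Groth.Agent.WeakAssLib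

variable {X : Scheme.{u}}

/-- A sheaf of modules supported on a closed set of small dimension has no cohomology in high degree. -/
theorem subsingleton_hh_of_supported [NoetherianSpace X] {S : Set X} (hS : IsClosed S) (e : ℕ)
    (hd : topologicalKrullDim S ≤ (e : WithBot ℕ∞)) (G : X.Modules) (hG : CohB1.support G ⊆ S) (p : ℕ)
    (hp : e < p) : Subsingleton (Coh.HH X G p) := by
  let U : X.Opens := ⟨Sᶜ, hS.isOpen_compl⟩
  refine FreeJ.subsingleton_H_of_support (X := X.toPresheafedSpace.carrier) (G := Coh.toAb G) U
    (fun x hx => not_not.1 fun h => hx (hG h)) p fun N => ?_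
  refine S0458.result (X := TopCat.of ((U : Set X)ᶜ : Set X)) e ?_ N p hp
  exact (IsHomeomorph.topologicalKrullDim_eq _ (Homeomorph.setCongr (compl_compl _)).isHomeomorph).le.trans hd

/-- A closed proper subset of an irreducible space of dimension `d` has dimension less than `d`. -/
theorem exists_dim_le {Z : Type u} [TopologicalSpace Z] [IrreducibleSpace Z] {d : ℕ}
    (hd : topologicalKrullDim Z ≤ (d : WithBot ℕ∞)) (s : Set Z) (hs : IsClosed s) (hne : s ≠ Set.univ)
    (hne' : s.Nonempty) : ∃ e : ℕ, d = e + 1 ∧ topologicalKrullDim s ≤ (e : WithBot ℕ∞) := by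
  have h := FreeJ.dim_lt_of_proper (n := d) (hd.trans_lt (by exact_mod_cast Nat.lt_succ_self d)) s hs hne
  haveI := hne'.to_subtype
  rcases d with _ | e
  · exfalso
    exact not_le.2 h (by
      haveI : Nonempty (IrreducibleCloseds s) := ⟨⟨closure {Classical.arbitrary s},
        isIrreducible_singleton.closure, isClosed_closure⟩⟩
      exact_mod_cast Order.krullDim_nonneg (α := IrreducibleCloseds s))
  · refine ⟨e, rfl, ?_⟩
    generalize topologicalKrullDim s = a at h ⊢
    induction a with
    | bot => exact bot_le
    | coe a =>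
      induction a using ENat.recTopCoe with
      | top => exact absurd h (by simp)
      | coe a =>
        change ((a : ℕ∞) : WithBot ℕ∞) < ((e + 1 : ℕ) : WithBot ℕ∞) at h
        change ((a : ℕ∞) : WithBot ℕ∞) ≤ ((e : ℕ) : WithBot ℕ∞)
        have : a < e + 1 := by exact_mod_cast h
        exact_mod_cast Nat.lt_succ_iff.1 this

/-- The cokernel of a morphism onto on small opens is supported outside. -/
theorem support_coker_subset {A B : X.Modules} (φ : A ⟶ B) (Q : X.Opens)
    (h : ∀ W ≤ Q, Function.Surjective (φ.app W)) : CohB1.support (cokernel φ) ⊆ (Q : Set X)ᶜ := by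
  intro x hx hxQ
  refine CurveRR.notMem_support_coker φ x (fun v => ?_) hx
  obtain ⟨W, hxW, b, rfl⟩ := B.presheaf.exists_germ_eq (x := x) v
  obtain ⟨a, ha⟩ := h (W ⊓ Q) inf_le_right (res B inf_le_left b)
  exact ⟨mgerm A (U := W ⊓ Q) ⟨hxW, hxQ⟩ a, by rw [stalkHom_germ, ha, mgerm_res]⟩

variable {k : Type u} [Field k] [X.Over (Spec (CommRingCat.of k))]

/-- A monomorphism with small cokernel is surjective on top cohomology. -/
theorem hh_surjective_of_support [NoetherianSpace X] {A B : X.Modules} (φ : A ⟶ B) [Mono φ] {S : Set X}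
    (hS : IsClosed S) (e : ℕ) (hd : topologicalKrullDim S ≤ (e : WithBot ℕ∞))
    (hsupp : CohB1.support (cokernel φ) ⊆ S) :
    Function.Surjective (Canon.HHlin k (X := X) φ (e + 1)) := by
  intro x
  have hT : (ShortComplex.mk φ (cokernel.π φ) (cokernel.condition φ)).ShortExact :=
    { exact := ShortComplex.exact_of_g_is_cokernel _ (cokernelIsCokernel φ) }
  exact (CohFinite.map_g_eq_zero_iff (CohFinite.shortExact_toAb hT) (e + 1) x).1
    ((subsingleton_hh_of_supported hS e hd _ hsupp (e + 1) (Nat.lt_succ_self e)).elim _ _)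

end Groth.Agent.Lich
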