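import Groth.Agent.Lich.Main
import Groth.Agent.S0384
import Groth.Agent.S17883
import Groth.Agent.S8859
import Groth.Agent.S1682
import Groth.Agent.S2348
import Groth.Agent.S0012
import Groth.Agent.BlowUpExist.Proper
import Groth.Agent.WeilLib.Trdeg
import Groth.Agent.Rigid.DimDrop
import Groth.Agent.CycDim.DegBase

/-!
Top cohomology of a nonproper variety vanishes.
-/

set_option autoImplicit false
set_option backward.isDefEq.respectTransparency false
set_option linter.style.haveILetI false
set_option maxHeartbeats 1000000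

universe u

open CategoryTheory CategoryTheory.Limits AlgebraicGeometry TopologicalSpace Opposite

noncomputable section

namespace Groth.Agent.Lich

variable {k : Type u} [Field k]

theorem residueDegree_openImm {X Y : Scheme.{u}} (f : X ⟶ Y) [IsOpenImmersion f] (x : X) :
    f.residueDegree x ≠ 0 := by
  rw [CycDeg.residueDegree_eq_one f (ConcreteCategory.bijective_of_isIso (f.residueFieldMap x)).2]
  exact one_ne_zero

theorem topologicalKrullDim_eq_of_openImm {X Y : Scheme.{u}} [IrreducibleSpace X] [IrreducibleSpace Y]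
    (p : X ⟶ Spec (CommRingCat.of k)) (q : Y ⟶ Spec (CommRingCat.of k)) [LocallyOfFiniteType p] [LocallyOfFiniteType q]
    (f : X ⟶ Y) [IsOpenImmersion f] (w : f ≫ q = p) : topologicalKrullDim Y = topologicalKrullDim X := by
  rw [Rigid.topologicalKrullDim_eq_pdim p, Rigid.topologicalKrullDim_eq_pdim q,
    ← genericPoint_eq_of_isOpenImmersion f,
    WeilLib.pdim_eq_of_residueDegree_ne_zero p f q w (residueDegree_openImm f _)]

/-- **Lichtenbaum's theorem**: the cohomology in degree `dim U` of a nonproper variety vanishes. -/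
theorem subsingleton_hh_of_not_isProper (U : Scheme.{u}) (f : U ⟶ Spec (CommRingCat.of k)) [IsIntegral U]
    [IsSeparated f] [LocallyOfFiniteType f] [QuasiCompact f] (F : U.Modules) (hF : Coh.IsCoh F) (d : ℕ)
    (hd : topologicalKrullDim U = d) (hf : ¬ IsProper f) : Subsingleton (Coh.HH U F d) := by
  classical
  obtain ⟨Xc, j, g, hj, hjqc, hdom, hg, hjg, -⟩ :=
    S17883.result.{u, 0} f (ι := PEmpty.{1}) (fun i => i.elim) (fun i => i.elim)
  haveI : IsReduced Xc := IsSchemeTheoreticallyDominant.isReduced j
  haveI : IrreducibleSpace Xc := by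
    have h : IsIrreducible (closure (Set.range j)) := by
      rw [← Set.image_univ]
      exact ((IrreducibleSpace.isIrreducible_univ U).image j j.continuous.continuousOn).closure
    rw [j.denseRange.closure_eq] at h
    exact { toPreirreducibleSpace := ⟨h.2⟩, toNonempty := h.1.to_type }
  haveI : IsIntegral Xc := isIntegral_of_irreducibleSpace_of_isReduced Xc
  haveI : IsLocallyNoetherian Xc := LocallyOfFiniteType.isLocallyNoetherian g
  let Z : Closeds Xc := ⟨(Set.range j)ᶜ, j.isOpenEmbedding.isOpen_range.isClosed_compl⟩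
  let I := Scheme.IdealSheafData.vanishingIdeal Z
  have hIc : I.support.compl = j.opensRange := by
    show Z.compl = _
    exact Opens.ext (compl_compl _)
  have hI : I ≠ ⊥ := fun h => by
    have h1 : I.support.compl = ⊥ := by rw [h, Scheme.IdealSheafData.support_bot]; exact Opens.ext Set.compl_univ
    rw [hIc] at h1
    have : j (Nonempty.some inferInstance) ∈ j.opensRange := ⟨_, rfl⟩
    rw [h1] at this
    exact this
  obtain ⟨X, b, hb⟩ := S8859.result Xc I
  obtain ⟨hXint, -, -⟩ := S2348.result I hI b hb
  haveI : IsProper b := BlowUpExist.isProper_of_isFiniteType hb fun V => by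
    haveI := IsLocallyNoetherian.component_noetherian V
    exact IsNoetherian.noetherian _
  haveI hiso : IsIso (b ∣_ j.opensRange) := hIc ▸ S1682.result I b hb
  letI : X.Over (Spec (CommRingCat.of k)) := ⟨b ≫ g⟩
  haveI : IsProper (X ↘ Spec (CommRingCat.of k)) := inferInstanceAs (IsProper (b ≫ g))
  set Q : X.Opens := b ⁻¹ᵁ j.opensRange with hQdef
  let e : U ⟶ (Q : Scheme.{u}) := j.isoOpensRange.hom ≫ inv (b ∣_ j.opensRange)
  have hQ : Q = (I.comap b).support.compl := by
    rw [hQdef, ← hIc, Scheme.IdealSheafData.support_comap]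
    rfl
  have hw : (e ≫ Q.ι) ≫ (b ≫ g) = f := by
    have h1 : inv (b ∣_ j.opensRange) ≫ Q.ι ≫ b = j.opensRange.ι := by
      rw [IsIso.inv_comp_eq, morphismRestrict_ι]
    simp only [e, Category.assoc]
    rw [← Category.assoc Q.ι b g, ← Category.assoc (inv _) _ g, h1, ← Category.assoc,
      Scheme.Hom.isoOpensRange_hom_ι, hjg]
  have hdimX : topologicalKrullDim X = d := (topologicalKrullDim_eq_of_openImm f (b ≫ g) (e ≫ Q.ι) hw).trans hd
  have hne : ((I.comap b).support : Set X).Nonempty := by
    rcases ((I.comap b).support : Set X).eq_empty_or_nonempty with h | h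
    · exfalso
      have hQt : Q = ⊤ := by
        rw [hQ]
        exact Opens.ext (by rw [Closeds.coe_compl, h, Set.compl_empty]; rfl)
      refine hf (hw ▸ ?_)
      haveI : IsIso (e ≫ Q.ι) := by
        haveI : IsIso Q.ι := isIso_of_isOpenImmersion_of_opensRange_eq_top Q.ι
          (by rw [Scheme.Opens.opensRange_ι, hQt])
        infer_instance
      infer_instance
    · exact h
  have hQne : (Q : Set X).Nonempty := ⟨Q.ι (e (Nonempty.some inferInstance)), (e (Nonempty.some inferInstance)).2⟩
  haveI : Coh.IsQCoh F := hF.1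
  haveI : F.IsQuasicoherent := hF.1
  have hF' : Coh.IsCoh ((Coh.push e).obj F) := QC.isCoh_pushforward_of_isFinite (hM := hF.1) e hF.2
  haveI : Coh.IsQCoh ((Coh.push e).obj F) := hF'.1
  haveI : IsAffineHom Q.ι := ExtLocus.isAffineHom_ι hQ hb.1
  have hX := subsingleton_hh_push k d hdimX.le (I.comap b) hb.1 hne Q hQ hQne _ hF'
  obtain ⟨e1⟩ := S0012.result e F d
  obtain ⟨e2⟩ := S0012.result Q.ι ((Coh.push e).obj F) d
  haveI : Subsingleton (Coh.HH X ((Coh.push Q.ι).obj ((Coh.push e).obj F)) d) := hX
  exact (e1.trans e2).toEquiv.subsingleton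

end Groth.Agent.Lich
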