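import Groth.Agent.Lich.Support
import Groth.Agent.ExtLocus.Gen
import Groth.Agent.DCohShriek.DualModuleField
import Groth.Agent.CohFinite.Proper
import Groth.Agent.RegDual.Scheme
import Mathlib.RingTheory.Filtration
import Mathlib.LinearAlgebra.Dual.Lemmas

/-!
Top cohomology vanishes on the complement of an effective Cartier divisor in a proper integral scheme.
-/

set_option autoImplicit false
set_option backward.isDefEq.respectTransparency false
set_option linter.style.haveILetI false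
set_option maxHeartbeats 1000000

universe u

open CategoryTheory CategoryTheory.Limits AlgebraicGeometry TopologicalSpace Opposite

noncomputable section

namespace Groth.Agent.Lich

open Groth.Agent.QC Groth.Agent.WeakAssLib

section Sub

variable {X : Scheme.{u}} {M : X.Modules}

/-- The inclusion of one subsheaf into a bigger one. -/
theorem exists_incl {S T : Sub M} (h : ∀ O, S.obj O ≤ T.obj O) : ∃ j : S.toModules ⟶ T.toModules, j ≫ T.ι = S.ι :=
  exists_lift_of_range T.ι S.ι fun O a =>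
    (T.range_ι_app O _).2 (h O ((S.range_ι_app O _).1 ⟨a, rfl⟩))

theorem surjective_ι_app {S : Sub M} {O : X.Opens} (h : S.obj O = ⊤) : Function.Surjective (S.ι.app O) :=
  fun s => (S.range_ι_app O s).2 (h ▸ Submodule.mem_top)

theorem surjective_incl_app {S T : Sub M} (j : S.toModules ⟶ T.toModules) (hj : j ≫ T.ι = S.ι) {O : X.Opens}
    (h : S.obj O = ⊤) : Function.Surjective (j.app O) := fun b => by
  obtain ⟨a, ha⟩ := surjective_ι_app h (T.ι.app O b)
  refine ⟨a, T.ι_app_injective O ?_⟩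
  rw [← ha, ← hj]
  rfl

/-- A coherent module on an open extends to a subsheaf of finite type of its direct image. -/
theorem exists_ext_sub [IsNoetherian X] (Q : X.Opens) (F : (Q : Scheme.{u}).Modules) (hF : Coh.IsCoh F)
    [((Scheme.Modules.pushforward Q.ι).obj F).IsQuasicoherent] :
    ∃ S : Sub ((Scheme.Modules.pushforward Q.ι).obj F), LocFinGen S ⊤ ∧ ∀ O ≤ Q, S.obj O = ⊤ := by
  let M := (Scheme.Modules.pushforward Q.ι).obj F
  let e : M.restrict Q.ι ≅ F := asIso ((Scheme.Modules.restrictAdjunction Q.ι).counit.app F)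
  have hq : Coh.IsQCoh (M.restrict Q.ι) := QC.isQCoh_restrict _ inferInstance
  haveI : (M.restrict Q.ι).IsQuasicoherent := hq
  have hft : CohB1.IsFT (M.restrict Q.ι) := (QC.isCoh_of_epi hF hq e.inv).2
  obtain ⟨S, hS, heq⟩ := exists_extend (F := M) (fun x => ⟨⊤, trivial, NoetherianSpace.set _⟩)
    (subOfOpen Q (M.restrict Q.ι) (𝟙 _)) (locFinGen_subOfOpen Q _ _ hft)
  refine ⟨S, hS, fun O hO => ?_⟩
  rw [heq O hO, eq_top_iff]
  have hO' : Q.ι ''ᵁ (Q.ι ⁻¹ᵁ O) = O := by
    rw [Scheme.Hom.image_preimage_eq_opensRange_inf, Scheme.Opens.opensRange_ι, inf_eq_right.mpr hO]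
  rw [← hO']
  rintro s -
  exact (subOfOpen_obj Q _ _ _ s).2 ⟨(M.restrictAppIso Q.ι (Q.ι ⁻¹ᵁ O)).inv s,
    (M.restrictAppIso Q.ι (Q.ι ⁻¹ᵁ O)).addCommGroupIsoToAddEquiv.apply_symm_apply s⟩

end Sub

variable (k : Type u) [Field k] {X : Scheme.{u}} [X.Over (Spec (CommRingCat.of k))]

theorem hhlin_comp {A B C : X.Modules} (φ : A ⟶ B) (ψ : B ⟶ C) (r : ℕ) (x : Coh.HH X A r) :
    Canon.HHlin k (φ ≫ ψ) r x = Canon.HHlin k ψ r (Canon.HHlin k φ r x) := by
  show Sheaf.H.map ((SheafOfModules.toSheaf X.ringCatSheaf).map (φ ≫ ψ)) r x = _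
  rw [Functor.map_comp]
  exact Sheaf.H.map_comp_apply _ _ _

/-- Sections divisible by all powers of a nonunit vanish in the stalk of a coherent module. -/
theorem mgerm_eq_zero_of_divisible [IsLocallyNoetherian X] {ω : X.Modules} (hω : Coh.IsCoh ω) {W : X.Opens} {z : X}
    (hz : z ∈ W) (h : Γ(X, W)) (hzh : z ∉ X.basicOpen h) (s : Γ(ω, W))
    (hs : ∀ n : ℕ, ∃ t : Γ(ω, W), h ^ n • t = s) : mgerm ω hz s = 0 := by
  haveI := RegDual.finite_stalk hω z
  haveI : IsNoetherianRing (X.presheaf.stalk z) := inferInstance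
  have hm : X.presheaf.germ W z hz h ∈ IsLocalRing.maximalIdeal (X.presheaf.stalk z) :=
    (IsLocalRing.mem_maximalIdeal _).2 fun hu => hzh ((X.mem_basicOpen h z hz).2 hu)
  have hmem : mgerm ω hz s ∈ (⨅ n : ℕ, IsLocalRing.maximalIdeal (X.presheaf.stalk z) ^ n •
      (⊤ : Submodule (X.presheaf.stalk z) (ω.presheaf.stalk z))) := by
    refine Submodule.mem_iInf _ |>.2 fun n => ?_
    obtain ⟨t, ht⟩ := hs n
    rw [← ht, mgerm_smul]
    refine Submodule.smul_mem_smul ?_ Submodule.mem_top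
    rw [map_pow]
    exact Ideal.pow_mem_pow hm n
  rwa [Ideal.iInf_pow_smul_eq_bot_of_le_jacobson _ (IsLocalRing.maximalIdeal_le_jacobson _),
    Submodule.mem_bot] at hmem

/-- Lichtenbaum: top cohomology vanishes away from an effective Cartier divisor. -/
theorem subsingleton_hh_push [IsProper (X ↘ Spec (CommRingCat.of k))] [IsIntegral X] (d : ℕ)
    (hd : topologicalKrullDim X ≤ (d : WithBot ℕ∞)) (I : X.IdealSheafData) (hI : BlowUp.IsEffCartierIdeal I)
    (hne : (I.support : Set X).Nonempty) (Q : X.Opens) (hQ : Q = I.support.compl)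
    (hQne : (Q : Set X).Nonempty) (F : (Q : Scheme.{u}).Modules) (hF : Coh.IsCoh F) :
    Subsingleton (Coh.HH X ((Scheme.Modules.pushforward Q.ι).obj F) d) := by
  classical
  haveI : IsNoetherian X := CurveRR.isNoetherian_of_proper k X
  haveI : F.IsQuasicoherent := hF.1
  haveI : ((Scheme.Modules.pushforward Q.ι).obj F).IsQuasicoherent := QC.isQCoh_pushforward Q.ι
  set M := (Scheme.Modules.pushforward Q.ι).obj F with hM
  have hQc : (Q : Set X)ᶜ = I.support := by rw [hQ]; exact compl_compl _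
  have hZne : (Q : Set X)ᶜ.Nonempty := by rw [hQc]; exact hne
  obtain ⟨e, he, hdim⟩ := exists_dim_le hd (Q : Set X)ᶜ Q.isOpen.isClosed_compl (fun h => by
    rw [Set.compl_univ_iff] at h; exact hQne.ne_empty h) hZne
  subst he
  obtain ⟨ω, t, hω, hdual⟩ := DCohShriek.exists_coh_isRDual k (X := X) (e + 1) hd
  obtain ⟨S0, hS0, hS0Q⟩ := exists_ext_sub Q F hF
  let P : Sub M → Prop := fun S => LocFinGen S ⊤ ∧ ∀ O ≤ Q, S.obj O = ⊤
  have hex : ∃ n : ℕ, ∃ S, P S ∧ Module.finrank k (Coh.HH X S.toModules (e + 1)) = n := ⟨_, S0, ⟨hS0, hS0Q⟩, rfl⟩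
  obtain ⟨S, ⟨hS, hSQ⟩, hmin⟩ := Nat.find_spec hex
  have hScoh : Coh.IsCoh S.toModules := Sub.isCoh_toModules hS
  haveI := CohFinite.finite_proper (A := k) X S.toModules hScoh (e + 1)
  -- every morphism to the dualizing module extends to bigger subsheaves
  have hext : ∀ (T : Sub M), P T → (∀ O, S.obj O ≤ T.obj O) → ∀ φ : S.toModules ⟶ ω,
      ∃ (j : S.toModules ⟶ T.toModules) (φ' : T.toModules ⟶ ω), j ≫ T.ι = S.ι ∧ j ≫ φ' = φ := by
    intro T hT hle φ
    obtain ⟨j, hj⟩ := exists_incl hle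
    haveI : Mono j := by
      haveI : Mono (j ≫ T.ι) := by rw [hj]; infer_instance
      exact mono_of_mono j T.ι
    have hTcoh : Coh.IsCoh T.toModules := Sub.isCoh_toModules hT.1
    haveI := CohFinite.finite_proper (A := k) X T.toModules hTcoh (e + 1)
    have hsurj : Function.Surjective (Canon.HHlin k j (e + 1)) :=
      hh_surjective_of_support j Q.isOpen.isClosed_compl e hdim
        (support_coker_subset j Q fun O hO => surjective_incl_app j hj (hSQ O hO))
    have hle' : Module.finrank k (Coh.HH X S.toModules (e + 1)) ≤ Module.finrank k (Coh.HH X T.toModules (e + 1)) := by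
      rw [hmin]; exact Nat.find_min' hex ⟨T, hT, rfl⟩
    have hinj : Function.Injective (Canon.HHlin k j (e + 1)) :=
      (LinearMap.injective_iff_surjective_of_finrank_eq_finrank
        (le_antisymm hle' (LinearMap.finrank_le_finrank_of_surjective hsurj))).2 hsurj
    let E := LinearEquiv.ofBijective _ ⟨hinj, hsurj⟩
    obtain ⟨φ', hφ'⟩ := (hdual.2 T.toModules hTcoh.1).2
      ((Canon.dualityMap k X (e + 1) ω t S.toModules φ).comp E.symm.toLinearMap)
    refine ⟨j, φ', hj, (hdual.2 S.toModules hScoh.1).1 (LinearMap.ext fun x => ?_)⟩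
    show t (Canon.HHlin k (j ≫ φ') (e + 1) x) = Canon.dualityMap k X (e + 1) ω t S.toModules φ x
    rw [hhlin_comp]
    have h1 := LinearMap.congr_fun hφ' (Canon.HHlin k j (e + 1) x)
    refine h1.trans ?_
    exact congrArg (Canon.dualityMap k X (e + 1) ω t S.toModules φ) (E.symm_apply_apply x)
  -- such morphisms vanish along the divisor
  have hgerm : ∀ (φ : S.toModules ⟶ ω) (V : X.Opens) (z : X) (hzV : z ∈ V) (_ : z ∉ Q) (s : Γ(S.toModules, V)),
      mgerm ω hzV (φ.app V s) = 0 := by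
    intro φ V z hzV hzQ s
    obtain ⟨W, hzW, hWV, h, -, hIW⟩ := BlowUpLib.exists_small_generator hI (O := V) hzV
    rw [← mgerm_res ω hWV hzW, app_res]
    refine mgerm_eq_zero_of_divisible hω hzW h (fun hb => hzQ ?_) _ fun n => ?_
    · have := (ExtLocus.compl_inf_eq hQ W hIW).ge hb
      exact this.1
    set x := res S.toModules hWV s
    have hu : IsUnit ((Q.ι.app W.1).hom h) := by
      have := (ExtLocus.rho_facts hQ W hIW).1
      rw [Scheme.Hom.app_eq_appLE]
      exact this
    let m : Γ(F, Q.ι ⁻¹ᵁ W.1) := S.ι.app W.1 x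
    let y : Γ(M, W.1) := (show Γ(F, Q.ι ⁻¹ᵁ W.1) from ((↑(hu.unit⁻¹) : Γ((Q : Scheme.{u}), Q.ι ⁻¹ᵁ W.1)) ^ n) • m)
    have hy : h ^ n • y = S.ι.app W.1 x := by
      show ((Q.ι.app W.1).hom (h ^ n)) • (show Γ(F, Q.ι ⁻¹ᵁ W.1) from y) = m
      rw [map_pow]
      show ((Q.ι.app W.1).hom h) ^ n • (((↑(hu.unit⁻¹) : Γ((Q : Scheme.{u}), Q.ι ⁻¹ᵁ W.1)) ^ n) • m) = m
      rw [smul_smul, ← mul_pow, IsUnit.mul_val_inv, one_pow, one_smul]
    obtain ⟨T', hT', hyT⟩ := SymAlg.exists_ft_containing (F := M) (κ := PUnit.{u + 1}) (fun _ => W) (fun _ => y)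
    obtain ⟨j, φ', hj, hjφ⟩ := hext (SymAlg.subSup S T') ⟨SymAlg.locFinGen_subSup hS hT', fun O hO => eq_top_iff.2
      fun a _ => SymAlg.mem_subSup_left ((hSQ O hO).symm ▸ Submodule.mem_top)⟩
      (fun O a ha => SymAlg.mem_subSup_left ha) φ
    obtain ⟨y', hy'⟩ := ((SymAlg.subSup S T').range_ι_app W.1 y).2 (SymAlg.mem_subSup_right (hyT PUnit.unit))
    refine ⟨φ'.app W.1 y', ?_⟩
    rw [← hjφ]
    show h ^ n • φ'.app W.1 y' = φ'.app W.1 (j.app W.1 x)
    rw [← Scheme.Modules.Hom.app_smul]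
    congr 1
    refine (SymAlg.subSup S T').ι_app_injective W.1 ?_
    rw [Scheme.Modules.Hom.app_smul, hy', hy, ← hj]
    rfl
  -- hence they vanish
  have hzero : ∀ φ : S.toModules ⟶ ω, Canon.dualityMap k X (e + 1) ω t S.toModules φ = 0 := by
    intro φ
    let J := Abelian.image φ
    have hJ : Coh.IsCoh J := QC.isCoh_kernel hω (QC.isCoh_cokernel hScoh.1 hω φ).1 (cokernel.π φ)
    have hJs : ∀ z : X, z ∉ Q → z ∉ CohB1.support J := by
      intro z hz hzs
      refine hzs (subsingleton_of_forall_eq 0 fun v => ?_)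
      obtain ⟨w, rfl⟩ := (ModuleCat.epi_iff_surjective _).1
        (inferInstance : Epi ((DerSch.stalkFunctor X z).map (Abelian.factorThruImage φ))) v
      obtain ⟨V, hzV, s, rfl⟩ := S.toModules.presheaf.exists_germ_eq (x := z) w
      refine (ModuleCat.mono_iff_injective _).1
        (inferInstance : Mono ((DerSch.stalkFunctor X z).map (Abelian.image.ι φ))) ?_
      show stalkHom (Abelian.image.ι φ) z (stalkHom (Abelian.factorThruImage φ) z (mgerm _ hzV s)) =
        stalkHom (Abelian.image.ι φ) z 0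
      rw [stalkHom_germ, stalkHom_germ, map_zero]
      have h1 := hgerm φ V z hzV hz s
      conv_lhs at h1 => rw [← Abelian.image.fac φ]
      exact h1
    obtain ⟨T, hT, hTd, hTs⟩ : ∃ T : Set X, IsClosed T ∧ topologicalKrullDim T ≤ (e : WithBot ℕ∞) ∧
        CohB1.support J ⊆ T := by
      rcases (CohB1.support J).eq_empty_or_nonempty with hJe | hJne
      · exact ⟨_, Q.isOpen.isClosed_compl, hdim, by rw [hJe]; exact Set.empty_subset _⟩
      · obtain ⟨z0, hz0⟩ := hZne
        obtain ⟨e', he', hd'⟩ := exists_dim_le hd (CohB1.support J) (QC.isClosed_support hJ.2)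
          (fun h => hJs z0 hz0 (h ▸ Set.mem_univ z0)) hJne
        obtain rfl : e' = e := by omega
        exact ⟨_, QC.isClosed_support hJ.2, hd', subset_rfl⟩
    refine LinearMap.ext fun x => ?_
    show t (Canon.HHlin k φ (e + 1) x) = 0
    conv_lhs => rw [← Abelian.image.fac φ]
    rw [hhlin_comp, (subsingleton_hh_of_supported hT e hTd J hTs (e + 1) (Nat.lt_succ_self e)).elim
      (Canon.HHlin k (Abelian.factorThruImage φ) (e + 1) x) 0, map_zero, map_zero]
  have hHS : Subsingleton (Coh.HH X S.toModules (e + 1)) := subsingleton_of_forall_eq 0 fun x =>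
    (Module.forall_dual_apply_eq_zero_iff k x).1 fun ψ => by
      obtain ⟨φ, rfl⟩ := (hdual.2 S.toModules hScoh.1).2 ψ
      rw [hzero φ, LinearMap.zero_apply]
  exact (hh_surjective_of_support (k := k) S.ι Q.isOpen.isClosed_compl e hdim
    (support_coker_subset S.ι Q fun O hO => surjective_ι_app (hSQ O hO))).subsingleton

end Groth.Agent.Lich
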