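import Groth.Agent.Lich.Goodman
import Groth.Agent.NegTwist.Connected
import Groth.Agent.CurveRR.SmoothPt
import Groth.Agent.TMul.AffineLocus

/-!
Zero schemes of sections of ample modules are connected in dimension at least two.
-/

set_option autoImplicit false
set_option backward.isDefEq.respectTransparency false
set_option linter.style.haveILetI false

universe u

open CategoryTheory CategoryTheory.Limits AlgebraicGeometry TopologicalSpace Opposite

noncomputable section

namespace Groth.Agent.Lich

variable {k : Type u} [Field k] {X : Scheme.{u}}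

/-- The generating locus of a monomorphism `O → L` on an integral scheme is nonempty. -/
theorem generic_mem_genLocus_of_mono [IsIntegral X] {L : X.Modules} (hL : PicF.IsInvertible L)
    (s : Coh.structureModule X ⟶ L) [Mono s] : genericPoint X ∈ CohB1.genLocus L s := by
  have ht : TMul.val s ⊤ ≠ 0 := fun h => by
    have h0 : s.app ⊤ (1 : Γ(X, ⊤)) = s.app ⊤ (0 : Γ(X, ⊤)) := h.trans (map_zero _).symm
    exact one_ne_zero (α := Γ(X, ⊤)) (QC.app_injective_of_mono s ⊤ h0)
  have h := CurveRR.generic_mem_genLocus hL ht
  have e : TMul.homOf (TMul.val s ⊤) = s := Scheme.Modules.hom_ext _ _ fun W => by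
    ext c
    rw [TMul.app_eq_smul, TMul.app_eq_smul, TMul.val_homOf, TMul.res_val]
  rwa [e] at h

/-- **Enriques–Severi–Zariski, topological form**: ample zero schemes are connected. -/
theorem connectedSpace_zeroScheme (f : X ⟶ Spec (CommRingCat.of k)) [IsProper f] [IsIntegral X]
    (hdim : (2 : WithBot ℕ∞) ≤ topologicalKrullDim X) (L : X.Modules) (hL : CohB1.IsAmple L)
    (s : Coh.structureModule X ⟶ L) [Mono s] :
    ConnectedSpace ↥(PicF2.zeroScheme L s).subscheme := by
  obtain ⟨n, hn⟩ : ∃ n : ℕ, topologicalKrullDim X = n := ⟨_, Rigid.topologicalKrullDim_eq_pdim f⟩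
  have h2 : 2 ≤ n := by rw [hn] at hdim; exact_mod_cast hdim
  have hc := isConnected_compl f n hn h2 (CohB1.genLocus L s) (TMul.isAffineOpen_genLocus_of_universallyClosed f hL s)
    ⟨_, generic_mem_genLocus_of_mono hL.1 s⟩
  rw [connectedSpace_iff_univ]
  have hr : (PicF2.zeroScheme L s).subschemeι '' Set.univ = (CohB1.genLocus L s : Set X)ᶜ := by
    rw [Set.image_univ, Scheme.IdealSheafData.range_subschemeι, NegTwist.coe_support_zeroScheme hL.1 s]
  rw [← hr] at hc
  exact ⟨Set.image_nonempty.mp hc.1,
    ((PicF2.zeroScheme L s).subschemeι.isClosedEmbedding.isInducing.isPreconnected_image).mp hc.2⟩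

end Groth.Agent.Lich
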